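import Cfsg.Agent.Lib.GOB.Full
import Cfsg.Agent.Lib.GOA.Real
import Cfsg.Agent.Lib.GOA.Fpf2
import Cfsg.Agent.Lib.SE.Loc

/-!
# A group is `S₃`-free as soon as the normalizer of `D*(Q)` is, `Q` a Sylow `3`-subgroup
-/

set_option autoImplicit false

namespace CfsgLib.T3

open Subgroup Cfsg CfsgLib.H1 CfsgLib.GO CfsgLib.PCompl

universe u

theorem norm_sylow_map_le {G K : Type*} [Group G] [Finite G] [Group K] {p : ℕ} [Fact p.Prime]
    (f : G →* K) (hf : Function.Surjective f) {S : Subgroup G} (hS : IsSylowIn p S ⊤) :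
    normalizer ((S.map f : Subgroup K) : Set K) ≤ (normalizer (S : Set G)).map f := by
  intro y hy
  obtain ⟨g, rfl⟩ := hf y
  have h1 : g ∈ normalizer (((S.map f).comap f : Subgroup G) : Set G) :=
    le_normalizer_comap f hy
  obtain ⟨k, hk, h2⟩ := (hS.mono (le_comap_map f S) le_top).frattini_elem h1
  obtain ⟨s, hs, h3⟩ := hk
  refine ⟨s⁻¹ * (k * g), mul_mem (inv_mem (le_normalizer hs)) h2, ?_⟩
  rw [map_mul, map_mul, map_inv, ← h3, inv_mul_cancel_left]

theorem abTwo_of_not_eight {K : Type*} [Group K] [Finite K] (h : ¬ 8 ∣ Nat.card K) :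
    AbTwo K := fun P hP => by
  obtain ⟨k, hk⟩ := hP.exists_card_eq
  have h1 : k ≤ 2 := by
    by_contra h2
    refine h (dvd_trans ?_ (card_subgroup_dvd_card P))
    rw [hk]
    exact pow_dvd_pow 2 (show 3 ≤ k by omega)
  interval_cases k
  · have : Subsingleton P := (Nat.card_eq_one_iff_unique.1 (by simpa using hk)).1
    exact ⟨⟨fun a b => Subsingleton.elim _ _⟩⟩
  · have : IsCyclic P := isCyclic_of_prime_card (p := 2) (by simpa using hk)
    infer_instance
  · exact IsPGroup.isMulCommutative_of_card_eq_prime_sq hk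

theorem abTwo_of_overgroups {X : Type u} [Group X] [Finite X] (h3 : S3F X)
    (hO : pPrimeCore 2 X = ⊥)
    (h : ∀ Q M : Subgroup X, IsSylowIn 3 Q ⊤ → Q ≤ M → M ≠ ⊤ → Odd (Nat.card M)) : AbTwo X := by
  have : Fact (Nat.Prime 3) := ⟨Nat.prime_three⟩
  by_cases h0 : (⊤ : Subgroup X) = ⊥
  · intro P _
    have h1 : ∀ a : X, a = 1 := fun a => mem_bot.1 (h0 ▸ mem_top a)
    have : Subsingleton X := ⟨fun a b => by rw [h1 a, h1 b]⟩
    exact ⟨⟨fun a b => Subsingleton.elim _ _⟩⟩
  obtain ⟨L, ⟨hLn, hL0⟩, hmin⟩ := (Set.toFinite {L : Subgroup X | L.Normal ∧ L ≠ ⊥}).exists_minimal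
    ⟨⊤, inferInstance, h0⟩
  have hLe : 2 ∣ Nat.card L := by
    by_contra h1
    exact hL0 (eq_bot_iff.2 (hO ▸ le_pPrimeCore
      (Nat.Coprime.symm (Nat.prime_two.coprime_iff_not_dvd.2 h1))))
  obtain ⟨Q, hQ⟩ := IsSylowIn.exists_in (p := 3) (⊤ : Subgroup X)
  have hLQ : L ⊔ Q = ⊤ := by
    by_contra h1
    exact (Nat.not_even_iff_odd.2 (h Q _ hQ le_sup_right h1))
      (even_iff_two_dvd.2 (hLe.trans (card_dvd_of_le le_sup_left)))
  have h2L : ∀ P : Subgroup X, IsPGroup 2 P → P ≤ L := fun P hP x hx => by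
    have h1 : Q.map (QuotientGroup.mk' L) = ⊤ := by
      have h2 := congrArg (Subgroup.map (QuotientGroup.mk' L)) hLQ
      rwa [Subgroup.map_sup, (map_eq_bot_iff L).2 (QuotientGroup.ker_mk' L).ge, bot_sup_eq,
        map_top_of_surjective _ (QuotientGroup.mk'_surjective L)] at h2
    rw [← QuotientGroup.eq_one_iff]
    refine H5.eq_one_of_mem_of_coprime (hQ.isPGroup.map (QuotientGroup.mk' L))
      (h1 ▸ mem_top _) ?_
    obtain ⟨k, hk⟩ := hP ⟨x, hx⟩
    have h2 : x ^ 2 ^ k = 1 := congrArg Subtype.val hk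
    refine Nat.Coprime.coprime_dvd_left (orderOf_dvd_of_pow_eq_one (n := 2 ^ k) ?_)
      (Nat.Coprime.pow_left k (by norm_num))
    rw [← QuotientGroup.mk_pow, h2, QuotientGroup.mk_one]
  obtain ⟨N, hNn, -, hN, hs, -⟩ := H5.exists_maximal_normal_ge (G := L) (L := ⊥) (fun e => hL0 (by
    rw [eq_bot_iff]
    intro x hx
    have h1 : (⟨x, hx⟩ : L) ∈ (⊥ : Subgroup L) := e ▸ mem_top _
    exact congrArg Subtype.val (mem_bot.1 h1)))
  have key : ∀ y ∈ L, (∀ g : X, ∀ h : g * y * g⁻¹ ∈ L, (⟨_, h⟩ : L) ∈ N) → y = 1 := by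
    intro y hy h1
    have h2 : (N.map L.subtype).normalCore = ⊥ := by
      by_contra h3
      have h4 := (hmin ⟨inferInstance, h3⟩ ((normalCore_le _).trans (map_subtype_le N))).trans
        (normalCore_le _)
      refine hN (eq_top_iff.2 fun x _ => ?_)
      obtain ⟨z, hz, e⟩ := h4 x.2
      rwa [show x = z from Subtype.ext e.symm]
    rw [← mem_bot, ← h2]
    intro g
    exact ⟨⟨_, hLn.conj_mem y hy g⟩, h1 g _, rfl⟩
  have hI : Involves (L ⧸ N) X := involves_iff.2 ⟨L, QuotientGroup.mk' N, QuotientGroup.mk'_surjective N⟩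
  have hab : AbTwo (L ⧸ N) := by
    by_cases hc : IsMulCommutative (L ⧸ N)
    · intro P _; infer_instance
    rcases h3.kg_full _ hI hs hc with h4 | h4
    · exfalso
      have h5 : ¬ 3 ∣ Nat.card (L ⧸ N) := fun h5 => by
        obtain ⟨u, x, h6, h7, h8⟩ := h4.exists_real Nat.prime_three (by norm_num) h5
        have h9 : x = 1 := (h3.of_involves hI).eq_one (k := 1) (t := u)
          (by rw [pow_one, ← h7, pow_orderOf_eq_one]) (by rwa [inv_eq_of_mul_eq_one_right h6])
        rw [h9, orderOf_one] at h7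
        omega
      have h6 : ¬ 3 ∣ Nat.card L := fun h6 => by
        obtain ⟨y, hy⟩ := exists_prime_orderOf_dvd_card' 3 h6
        have h7 : (y : X) = 1 := key y y.2 fun g hg => by
          rw [← QuotientGroup.eq_one_iff, ← orderOf_eq_one_iff]
          refine (Nat.prime_three.eq_one_or_self_of_dvd _ (orderOf_dvd_of_pow_eq_one ?_)).resolve_right
            fun e => h5 (e ▸ orderOf_dvd_natCard _)
          rw [← QuotientGroup.mk_pow, ← QuotientGroup.mk_one]
          congr 1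
          apply Subtype.ext
          rw [coe_pow, conj_pow, ← coe_pow, ← hy, pow_orderOf_eq_one]
          simp
        rw [OneMemClass.coe_eq_one.1 h7, orderOf_one] at hy
        omega
      obtain ⟨T, hT⟩ := IsSylowIn.exists_in (p := 2) L
      have h7 : normalizer (T : Set X) ⊔ L = ⊤ := by
        rw [eq_top_iff, sup_comm]
        exact (hT.frattini_le le_top le_normalizer_of_normal).trans (sup_le_sup_left inf_le_right _)
      obtain ⟨S, hS⟩ := H5.exists_sylow_le_of_not_dvd_index (p := 3) fun h8 =>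
        h6 (h8.trans (H5.index_dvd_card_of_sup_eq_top le_normalizer_of_normal h7))
      have h8 : normalizer (T : Set X) = ⊤ := by
        by_contra h9
        refine (Nat.not_even_iff_odd.2 (h S _ (IsSylowIn.sylow_top S) hS h9))
          (even_iff_two_dvd.2 (dvd_trans ?_ (card_dvd_of_le le_normalizer)))
        exact hT.isPGroup.card_eq_or_dvd.resolve_left (by rw [card_eq_one]; exact hT.ne_bot hLe)
      have h9 := hmin ⟨normalizer_eq_top_iff.1 h8, hT.ne_bot hLe⟩ hT.le
      have h10 : IsPGroup 2 (L ⧸ N) := (hT.isPGroup.to_le h9).to_quotient N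
      exact hc ⟨⟨IsSimpleGroup.comm_iff_isSolvable.2 (isSolvable_of_isPGroup h10)⟩⟩
    · exact abTwo_of_not_eight h4.not_eight_dvd
  intro P hP
  refine ⟨⟨fun a b => Subtype.ext ?_⟩⟩
  rw [coe_mul, coe_mul, ← mul_inv_eq_one]
  refine key _ (h2L P hP (mul_mem (mul_mem a.2 b.2) (inv_mem (mul_mem b.2 a.2)))) fun g hg => ?_
  have h1 : IsPGroup 2 (P.map (MulAut.conj g).toMonoidHom) := hP.map _
  have h2 := hab _ ((h1.comap_subtype (K := L)).map (QuotientGroup.mk' N))
  have ha : g * a * g⁻¹ ∈ L := h2L _ h1 ⟨a, a.2, rfl⟩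
  have hb : g * b * g⁻¹ ∈ L := h2L _ h1 ⟨b, b.2, rfl⟩
  have h4 := congrArg Subtype.val (h2.is_comm.comm
    ⟨QuotientGroup.mk' N ⟨_, ha⟩, ⟨⟨_, ha⟩, ⟨a, a.2, rfl⟩, rfl⟩⟩
    ⟨QuotientGroup.mk' N ⟨_, hb⟩, ⟨⟨_, hb⟩, ⟨b, b.2, rfl⟩, rfl⟩⟩)
  simp only [coe_mul] at h4
  rw [← mul_inv_eq_one, ← map_mul, ← map_mul, ← map_inv, ← map_mul, QuotientGroup.mk'_apply,
    QuotientGroup.eq_one_iff] at h4
  convert h4 using 1
  apply Subtype.ext
  simp only [coe_mul, coe_inv]
  group

/-- the hypothesis of the main theorem -/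
def Hy (G : Type*) [Group G] : Prop :=
  ∀ Q : Subgroup G, IsSylowIn 3 Q ⊤ → Q ≠ ⊥ → S3F (normalizer (dSub Q : Set G))

theorem hy_sub {G : Type*} [Group G] [Finite G] {H : Subgroup G}
    (h : ∀ Q : Subgroup G, IsSylowIn 3 Q H → Q ≠ ⊥ → S3F (normalizer (dSub Q : Set G))) :
    Hy H := fun Q hQ h0 => by
  have h1 := hQ.map H.subtype
  rw [← MonoidHom.range_eq_map, range_subtype] at h1
  have h2 := h _ h1 (by rwa [Ne, map_eq_bot_iff_of_injective _ H.subtype_injective])
  rw [SE.dSub_map _ fun x _ e => Subtype.ext e] at h2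
  refine h2.of_injective ((H.subtype.comp (normalizer (dSub Q : Set H)).subtype).codRestrict _ fun x =>
    le_normalizer_map H.subtype ⟨x, x.2, rfl⟩) fun a b e => ?_
  have e' := congrArg Subtype.val e
  exact Subtype.ext (Subtype.ext e')

theorem s3f_map {G K : Type*} [Group G] [Group K] (f : G →* K) {H : Subgroup G} (h : S3F H) :
    S3F (H.map f) := h.of_surjective (f.subgroupMap H) (f.subgroupMap_surjective H)

theorem s3f_of_hy (G : Type u) [Group G] [Finite G] : Hy G → S3F G := by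
  refine card_induction (P := fun G _ _ => Hy G → S3F G) ?_ G
  intro G _ _ ih h
  have : Fact (Nat.Prime 3) := ⟨Nat.prime_three⟩
  by_contra hn
  obtain ⟨x, s, hx, hs⟩ : ∃ x s : G, orderOf x = 3 ∧ s * x * s⁻¹ = x⁻¹ := by
    by_contra h1
    push Not at h1
    exact hn (s3f_of_not_real h1)
  have hx3 : x ^ 3 ^ 1 = 1 := by rw [pow_one, ← hx, pow_orderOf_eq_one]
  have hx1 : x ≠ 1 := fun e => by rw [e, orderOf_one] at hx; omega
  have bad : ∀ {H : Subgroup G} {y t : G}, y ∈ H → t ∈ H → ∀ {k : ℕ}, y ^ 3 ^ k = 1 →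
      t * y * t⁻¹ = y⁻¹ → S3F H → y = 1 := fun {H y t} hy ht k h1 h2 h3 =>
    congrArg Subtype.val (h3.eq_one (d := ⟨y, hy⟩) (t := ⟨t, ht⟩) (k := k) (Subtype.ext h1)
      (Subtype.ext h2))
  have badq : ∀ (N : Subgroup G) [N.Normal], S3F (G ⧸ N) → x ∈ N := fun N _ h3 => by
    rw [← QuotientGroup.eq_one_iff]
    refine h3.eq_one (k := 1) (t := (s : G ⧸ N)) ?_ ?_
    · rw [← QuotientGroup.mk_pow, hx3, QuotientGroup.mk_one]
    · rw [← QuotientGroup.mk_inv, ← QuotientGroup.mk_mul, ← QuotientGroup.mk_mul, hs,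
        QuotientGroup.mk_inv]
  have ih1 : ∀ H : Subgroup G, H ≠ ⊤ → (∀ Q : Subgroup G, IsSylowIn 3 Q H → Q ≠ ⊥ →
      S3F (normalizer (dSub Q : Set G))) → S3F H := fun H hH h1 =>
    ih H (card_lt_of_ne_top hH) (hy_sub h1)
  have ih2 : ∀ Q M : Subgroup G, IsSylowIn 3 Q ⊤ → Q ≤ M → M ≠ ⊤ → S3F M := fun Q M hQ h1 hM =>
    ih1 M hM fun R hR => h R (hQ.of_card_le hR.isPGroup le_top (hR.card_le hQ.isPGroup h1))
  -- Step 1: `O₃(G) ≠ 1`
  have hU : pCore 3 G ≠ ⊥ := by
    obtain ⟨⟨W, R⟩, ⟨h1, h2, h3, h4⟩, hmax⟩ := Set.exists_max_image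
      {z : Subgroup G × Subgroup G | IsPGroup 3 z.1 ∧ z.1 ≠ ⊥ ∧ ¬ S3F (normalizer (z.1 : Set G)) ∧
        IsSylowIn 3 z.2 (normalizer (z.1 : Set G))} (fun z => Nat.card z.2) (Set.toFinite _) (by
      obtain ⟨R, hR⟩ := IsSylowIn.exists_in (p := 3) (normalizer (zpowers x : Set G))
      exact ⟨⟨zpowers x, R⟩, isPGroup_zpowers_of_pow hx3, by rwa [Ne, zpowers_eq_bot],
        fun h1 => hx1 (bad (le_normalizer (mem_zpowers x)) (inv_conj_mem_normalizer_zpowers hs)
          hx3 hs h1), hR⟩)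
    dsimp only at h1 h2 h3 h4 hmax
    have h5 : normalizer (W : Set G) = ⊤ := by
      by_contra h5
      refine h3 (ih1 _ h5 fun T hT hT0 => ?_)
      obtain ⟨Q, h6, hQ⟩ := IsSylowIn.exists_ge (H := ⊤) hT.isPGroup le_top
      rcases h6.eq_or_lt with rfl | h7
      · exact h _ hQ hT0
      by_contra h8
      have h9 := lt_inf_normalizer_of_isPGroup hQ.isPGroup h7
      obtain ⟨R', h10, hR'⟩ := IsSylowIn.exists_ge (H := normalizer (dSub T : Set G))
        (hQ.isPGroup.to_inf_left (K := normalizer (T : Set G)))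
        (inf_le_right.trans (normalizer_le_normalizer_dSub T))
      have h11 := hmax ⟨dSub T, R'⟩ ⟨hT.isPGroup.to_le (dSub_le T), dSub_ne_bot hT.isPGroup hT0,
        h8, hR'⟩
      dsimp only at h11
      rw [h4.card_eq hT] at h11
      exact (h9.trans_le h10).ne (eq_of_le_of_card_ge (h9.le.trans h10) h11)
    have := normalizer_eq_top_iff.1 h5
    exact fun e => h2 (eq_bot_iff.2 (e ▸ le_pCore h1))
  -- Step 2: `O_{3'}(G) = 1`
  have hO : pPrimeCore 3 G = ⊥ := by
    by_contra h1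
    have hc := pPrimeCore_coprime (G := G) 3
    have h2 := badq _ (ih _ (card_quotient_lt h1) fun Q hQ h0 => by
      obtain ⟨T, hT⟩ := IsSylowIn.exists_in (p := 3) (Q.comap (QuotientGroup.mk' (pPrimeCore 3 G)))
      have h3 := hT.map (QuotientGroup.mk' (pPrimeCore 3 G))
      rw [map_comap_eq_self_of_surjective (QuotientGroup.mk'_surjective _)] at h3
      have h4 : Q = T.map (QuotientGroup.mk' (pPrimeCore 3 G)) :=
        h3.eq_of_le hQ.isPGroup h3.le le_rfl
      have h5 : IsSylowIn 3 T ⊤ := ⟨le_top, hT.isPGroup, by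
        rw [relIndex_top_right, ← relIndex_mul_index hT.le,
          index_comap_of_surjective _ (QuotientGroup.mk'_surjective _)]
        intro h6
        rcases (Nat.Prime.dvd_mul Nat.prime_three).1 h6 with h7 | h7
        · exact hT.not_dvd h7
        · exact hQ.not_dvd (by rwa [relIndex_top_right])⟩
      have h6 : T ≠ ⊥ := fun e => h0 (by rw [h4, e, Subgroup.map_bot])
      rw [h4, SE.dSub_map _ fun y hy e => mem_bot.1 ((disjoint_iff.1
        (H5.disjoint_of_isPGroup_of_coprime hT.isPGroup hc)) ▸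
          mem_inf.2 ⟨hy, (QuotientGroup.eq_one_iff y).1 e⟩)]
      exact (s3f_map _ (h T h5 h6)).of_le (H5.normalizer_map_le_of_coprime _
        (QuotientGroup.mk'_surjective _) (by rwa [QuotientGroup.ker_mk'])
        (hT.isPGroup.to_le (dSub_le T))))
    have h3 := (pPrimeCore 3 G).orderOf_dvd_natCard h2
    rw [hx] at h3
    exact absurd (Nat.Coprime.eq_one_of_dvd hc.symm h3) (by norm_num)
  -- Step 3: `G / O₃(G)` is `S₃`-free
  set U := pCore 3 G with hUd
  have hU3 : IsPGroup 3 U := pCore_isPGroup 3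
  have hq : S3F (G ⧸ U) := ih _ (card_quotient_lt hU) fun Q hQ h0 => by
    have hs := QuotientGroup.mk'_surjective U
    have hk : IsPGroup 3 (QuotientGroup.mk' U).ker := by rwa [QuotientGroup.ker_mk']
    have h1 : IsSylowIn 3 (Q.comap (QuotientGroup.mk' U)) ⊤ := ⟨le_top,
      hQ.isPGroup.comap_of_ker_isPGroup _ hk, by
        rw [relIndex_top_right, index_comap_of_surjective _ hs, ← relIndex_top_right]
        exact hQ.not_dvd⟩
    rw [← map_comap_eq_self_of_surjective hs (normalizer (dSub Q : Set (G ⧸ U)))]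
    refine s3f_map _ (ih2 _ _ h1 (comap_mono (le_normalizer.trans
      (normalizer_le_normalizer_dSub Q))) fun e => ?_)
    rw [comap_normalizer_eq_of_surjective _ hs, normalizer_eq_top_iff] at e
    have h2 : (dSub Q).comap (QuotientGroup.mk' U) ≤ U :=
      le_pCore ((hQ.isPGroup.to_le (dSub_le Q)).comap_of_ker_isPGroup _ hk)
    refine dSub_ne_bot hQ.isPGroup h0 ?_
    rw [← map_comap_eq_self_of_surjective hs (dSub Q), Subgroup.map_eq_bot_iff, QuotientGroup.ker_mk']
    exact h2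
  have hxU := badq U hq
  have hUQ : ∀ Q : Subgroup G, IsSylowIn 3 Q ⊤ → U ≤ Q := fun Q hQ => by
    obtain ⟨P, rfl⟩ := IsSylowIn.top_iff.1 hQ
    exact hU3.le_sylow_of_normal P
  -- Step 4: characteristic `3`
  obtain ⟨Q, hQ⟩ := IsSylowIn.exists_in (p := 3) (⊤ : Subgroup G)
  have hC : centralizer (U : Set G) ≤ U := by
    have h1 := hQ.inf_of_le_normalizer (K := centralizer (U : Set G) ⊔ U) le_top
      le_normalizer_of_normal
    have h2 : normalizer ((Q ⊓ (centralizer (U : Set G) ⊔ U) : Subgroup G) : Set G) = ⊤ := by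
      by_contra h2
      have h3 : Q ≤ normalizer ((Q ⊓ (centralizer (U : Set G) ⊔ U) : Subgroup G) : Set G) :=
        le_normalizer_inf le_normalizer le_normalizer_of_normal
      obtain ⟨k, hk, h4⟩ := h1.frattini_elem (g := s) (le_normalizer_of_normal (mem_top s))
      obtain ⟨c, hc, u, hu, rfl⟩ := (mem_sup_iff_of_le_normalizer (le_normalizer_of_normal)).1 hk
      have h5 : c * s ∈ normalizer ((Q ⊓ (centralizer (U : Set G) ⊔ U) : Subgroup G) : Set G) := by
        have h6 := mul_mem (inv_mem (h3 (hUQ Q hQ hu))) h4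
        rwa [← mem_centralizer_iff.1 hc u hu, mul_assoc, inv_mul_cancel_left] at h6
      refine hx1 (bad (h3 (hUQ Q hQ hxU)) h5 hx3 ?_ (ih2 Q _ hQ h3 h2))
      calc c * s * x * (c * s)⁻¹ = c * (s * x * s⁻¹) * c⁻¹ := by group
        _ = _ := by rw [hs, ← mem_centralizer_iff.1 hc _ (inv_mem hxU), mul_inv_cancel_right]
    have := normalizer_eq_top_iff.1 h2
    have h3 : Q ⊓ (centralizer (U : Set G) ⊔ U) ≤ U := le_pCore h1.isPGroup
    have h4 := hQ.inf_of_le_normalizer (K := centralizer (U : Set G)) le_top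
      le_normalizer_of_normal
    obtain ⟨P, hP⟩ := h4.exists_sylow_map
    have h5 : HasNormalPComplement 3 (centralizer (U : Set G)) :=
      hnpc_of_normalizer_le_centralizer P fun y _ => by
        rw [mem_centralizer_iff]
        intro z hz
        have h6 : (z : G) ∈ U := h3 ((inf_le_inf_left Q le_sup_left) (hP ▸ ⟨z, hz, rfl⟩))
        exact Subtype.ext (y.2 z h6)
    refine le_pCore (isPGroup_of_hnpc_of_pPrimeCore_eq_bot h5 ?_)
    have h6 := map_pPrimeCore_le_of_isSubnormal 3 (H := centralizer (U : Set G))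
      (Normal.isSubnormal inferInstance)
    rwa [hO, le_bot_iff, map_eq_bot_iff_of_injective _ (subtype_injective _)] at h6
  -- Step 5: proper overgroups of Sylow subgroups have odd order
  have hodd : ∀ Q M : Subgroup G, IsSylowIn 3 Q ⊤ → Q ≤ M → M ≠ ⊤ → Odd (Nat.card M) := by
    intro Q M hQ h1 hM
    rw [← Nat.not_even_iff_odd, even_iff_two_dvd]
    intro h2
    obtain ⟨t, ht⟩ := exists_prime_orderOf_dvd_card' 2 h2
    rw [← Subgroup.orderOf_coe] at ht
    have h3 : (t : G) * t = 1 := by rw [← pow_two, ← ht, pow_orderOf_eq_one]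
    have h4 : (t : G) ∈ U := hC (mem_centralizer_iff.2 fun u hu => by
      have h5 : u⁻¹ * (t * u * (t : G)⁻¹) ∈ U :=
        mul_mem (inv_mem hu) ((inferInstance : U.Normal).conj_mem u hu t)
      obtain ⟨k, hk⟩ := hU3 ⟨_, h5⟩
      have h6 := bad ((hUQ Q hQ).trans h1 h5) t.2 (k := k) (congrArg Subtype.val hk) (by
        have h7 : (t : G)⁻¹ = t := inv_eq_of_mul_eq_one_right h3
        rw [h7]
        calc (t : G) * (u⁻¹ * (t * u * t)) * t = t * u⁻¹ * t * u * (t * t) := by group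
          _ = _ := by rw [h3, mul_inv_rev, mul_inv_rev, mul_inv_rev, h7]; group) (ih2 Q M hQ h1 hM)
      rw [inv_mul_eq_one, eq_mul_inv_iff_mul_eq] at h6
      exact h6)
    have h5 := H5.eq_one_of_mem_of_coprime hU3 h4 (by rw [ht]; norm_num)
    rw [h5, orderOf_one] at ht
    omega
  -- Step 6: abelian Sylow `2`-subgroups
  have hUK : U ≤ pPrimeCore 2 G := le_pPrimeCore (by
    obtain ⟨k, hk⟩ := hU3.exists_card_eq
    rw [hk]
    exact Nat.Coprime.pow_left k (by norm_num))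
  have hs2 := QuotientGroup.mk'_surjective (pPrimeCore 2 G)
  have hab : AbTwo (G ⧸ pPrimeCore 2 G) := by
    refine abTwo_of_overgroups (hq.of_surjective (QuotientGroup.map U _ (MonoidHom.id G) hUK)
      fun y => ?_) (pPrimeCore_quotient_pPrimeCore 2) fun R M hR h1 hM => ?_
    · obtain ⟨y, rfl⟩ := hs2 y
      exact ⟨y, rfl⟩
    · obtain ⟨T, hT⟩ := IsSylowIn.exists_in (p := 3) (M.comap (QuotientGroup.mk' (pPrimeCore 2 G)))
      have h5 : IsSylowIn 3 T ⊤ := ⟨le_top, hT.isPGroup, by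
        rw [relIndex_top_right, ← relIndex_mul_index hT.le, index_comap_of_surjective _ hs2]
        intro h6
        rcases (Nat.Prime.dvd_mul Nat.prime_three).1 h6 with h7 | h7
        · exact hT.not_dvd h7
        · exact hR.not_dvd (by rw [relIndex_top_right]; exact h7.trans (index_dvd_of_le h1))⟩
      have h6 := hodd T _ h5 hT.le fun e => hM (by
        rw [← map_comap_eq_self_of_surjective hs2 M, e, map_top_of_surjective _ hs2])
      rw [← map_comap_eq_self_of_surjective hs2 M]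
      exact h6.of_dvd_nat (card_map_dvd _ _)
  have hab' : AbTwo (⊤ : Subgroup G) := by
    refine AbTwo.of_injective (fun P hP => ?_) _ (subtype_injective _)
    have h1 := hab _ (hP.map (QuotientGroup.mk' (pPrimeCore 2 G)))
    refine ⟨⟨fun a b => Subtype.ext ?_⟩⟩
    have h2 := congrArg Subtype.val (h1.is_comm.comm ⟨_, ⟨a, a.2, rfl⟩⟩ ⟨_, ⟨b, b.2, rfl⟩⟩)
    simp only [coe_mul] at h2
    rw [← mul_inv_eq_one, ← map_mul, ← map_mul, ← map_inv, ← map_mul, QuotientGroup.mk'_apply,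
      QuotientGroup.eq_one_iff] at h2
    rw [coe_mul, coe_mul, ← mul_inv_eq_one, ← mem_bot, ← disjoint_iff.1
      (H5.disjoint_of_isPGroup_of_coprime hP (pPrimeCore_coprime 2))]
    exact mem_inf.2 ⟨mul_mem (mul_mem a.2 b.2) (inv_mem (mul_mem b.2 a.2)), h2⟩
  have h1 := (stableIn_of_abTwo (p := 3) (by norm_num) hab').le_normalizer_dSub (by
    unfold CharIn
    rw [pCoreOf_top]
    exact inf_le_right.trans hC) hQ
  exact hx1 (bad (h1 (mem_top x)) (h1 (mem_top s)) hx3 hs
    (h Q hQ fun e => hU (eq_bot_iff.2 (e ▸ hUQ Q hQ))))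

/-- a known simple group has an odd prime with even Sylow normalizers -/
theorem exists_even_norm {K : Type*} [Group K] [Finite K] [IsSimpleGroup K]
    (hna : ¬ IsMulCommutative K) (h : SzT K ∨ L3T K) : ∃ r : ℕ, r.Prime ∧ r ≠ 2 ∧ r ∣ Nat.card K ∧
      ∀ S : Subgroup K, IsSylowIn r S ⊤ → ¬ Odd (Nat.card (normalizer (S : Set K))) := by
  obtain ⟨r, hr, h1, h2, h3⟩ : ∃ r : ℕ, r.Prime ∧ r ∣ Nat.card K ∧ r ≠ 2 ∧ r ≠ 3 := by
    by_contra h1
    push Not at h1
    refine hna ⟨⟨IsSimpleGroup.comm_iff_isSolvable.2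
      (isSolvable_of_two_primes Nat.prime_two Nat.prime_three fun r hr hd => ?_)⟩⟩
    by_cases h2 : r = 2
    · exact Or.inl h2
    · exact Or.inr (h1 r hr hd h2)
  have : Fact r.Prime := ⟨hr⟩
  have hra : RA r (⊤ : Subgroup K) := by
    rcases h with h | h
    · exact h.ra hr h2
    · refine (L3T.ra_twoT (G := (⊤ : Subgroup K)) ?_).2 r hr h2 h3
      obtain ⟨F, _, _, f, h4, h5, ⟨e⟩⟩ := h
      exact ⟨F, inferInstance, inferInstance, f, h4, h5, ⟨topEquiv.trans e⟩⟩
  refine ⟨r, hr, h2, h1, fun S hS ho => ?_⟩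
  have h0 := H5.centerOf_ne_bot hS.isPGroup (hS.ne_bot (by rwa [card_top]))
  have h4 : IsPGroup r (H5.centerOf S) := hS.isPGroup.to_le inf_le_left
  obtain ⟨x, hx⟩ := exists_prime_orderOf_dvd_card' r
    (h4.card_eq_or_dvd.resolve_left (by rwa [card_eq_one]))
  rw [← Subgroup.orderOf_coe] at hx
  obtain ⟨⟨s, -, hs⟩, hc⟩ := hra x (mem_top _) hx
  have h5 : S ≤ centralizer {(x : K)} := fun y hy =>
    mem_centralizer_singleton_iff.2 (mem_centralizer_iff.1 x.2.2 y hy)
  have h6 : s ∈ normalizer ((centralizer {(x : K)} : Subgroup K) : Set K) := by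
    refine mem_normalizer_fintype fun y hy => ?_
    rw [SetLike.mem_coe, mem_centralizer_singleton_iff] at hy ⊢
    have h7 : (x : K) = s * (x : K)⁻¹ * s⁻¹ := by
      rw [← inv_inj, mul_inv_rev, mul_inv_rev, inv_inv, inv_inv, ← mul_assoc, hs]
    have h8 : y * (x : K)⁻¹ = (x : K)⁻¹ * y := (Commute.inv_right hy).eq
    rw [h7]
    calc s * y * s⁻¹ * (s * (x : K)⁻¹ * s⁻¹) = s * (y * (x : K)⁻¹) * s⁻¹ := by group
      _ = _ := by rw [h8]; group
  obtain ⟨k, hk, h7⟩ := (hS.mono h5 le_top).frattini_elem h6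
  rw [mem_centralizer_singleton_iff] at hk
  have h8 : k * s * x * (k * s)⁻¹ = (x : K)⁻¹ := by
    calc k * s * x * (k * s)⁻¹ = k * (s * x * s⁻¹) * k⁻¹ := by group
      _ = _ := by rw [hs, (Commute.inv_right hk).eq, mul_inv_cancel_right]
  obtain ⟨m, hm⟩ := ho.of_dvd_nat ((normalizer (S : Set K)).orderOf_dvd_natCard h7)
  have h9 := conj_odd_pow_of_inv h8 m
  rw [← hm, pow_orderOf_eq_one, one_mul, inv_one, mul_one, eq_inv_iff_mul_eq_one, ← pow_two] at h9
  have h10 := orderOf_dvd_of_pow_eq_one h9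
  rw [hx] at h10
  exact h2 ((Nat.prime_dvd_prime_iff_eq hr Nat.prime_two).1 h10)

/-- a nonsolvable group in which `N(D*(S))` has odd order for all odd Sylow subgroups `S`
does not exist -/
theorem solvable_of_odd_norm {G : Type u} [Group G] [Finite G]
    (h : ∀ r : ℕ, r.Prime → r ≠ 2 → r ∣ Nat.card G → ∃ S : Subgroup G, IsSylowIn r S ⊤ ∧
      Odd (Nat.card (normalizer (dSub S : Set G)))) (hp : commutator G = ⊤) :
    Group.IsSolvable G := by
  have : Fact (Nat.Prime 3) := ⟨Nat.prime_three⟩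
  have h3 : S3F G := s3f_of_hy G fun Q hQ h0 => by
    obtain ⟨S, hS, h1⟩ := h 3 Nat.prime_three (by norm_num) ((hQ.isPGroup.card_eq_or_dvd.resolve_left
      (by rwa [card_eq_one])).trans (card_subgroup_dvd_card Q))
    obtain ⟨g, -, rfl⟩ := hS.exists_conj_eq hQ
    rw [dSub_map_conj, normalizer_map_conj, card_map_of_injective (MulAut.conj g).injective] at h1
    refine s3f_of_not_real fun x s hx hs => ?_
    obtain ⟨m, hm⟩ := h1.of_dvd_nat (orderOf_dvd_natCard s)
    have h9 := conj_odd_pow_of_inv hs m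
    rw [← hm, pow_orderOf_eq_one, one_mul, inv_one, mul_one, eq_inv_iff_mul_eq_one,
      ← pow_two] at h9
    have h10 := orderOf_dvd_of_pow_eq_one h9
    rw [hx] at h10
    omega
  by_contra hns
  obtain ⟨N, hNn, -, hN, hs, -⟩ := H5.exists_maximal_normal_ge (G := G) (L := ⊥) (fun e => hns (by
    have h1 : ∀ a : G, a = 1 := fun a => mem_bot.1 (e ▸ mem_top a)
    exact Group.isSolvable_of_comm fun a b => by rw [h1 a, h1 b]))
  have hsj := QuotientGroup.mk'_surjective N
  have hc : ¬ IsMulCommutative (G ⧸ N) := fun hc => hN (by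
    rw [eq_top_iff, ← hp, commutator_def, commutator_le]
    intro a _ b _
    rw [← QuotientGroup.eq_one_iff, ← QuotientGroup.mk'_apply, map_commutatorElement,
      commutatorElement_eq_one_iff_mul_comm]
    exact hc.is_comm.comm _ _)
  obtain ⟨r, hr, h2, hd, h4⟩ := exists_even_norm hc
    (h3.kg_full _ (involves_of_surjective _ hsj) hs hc)
  have : Fact r.Prime := ⟨hr⟩
  obtain ⟨S, hS, h5⟩ := h r hr h2 (hd.trans (card_quotient_dvd_card N))
  have h6 := hS.map (QuotientGroup.mk' N)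
  rw [map_top_of_surjective _ hsj] at h6
  exact h4 _ h6 (h5.of_dvd_nat ((card_dvd_of_le (norm_sylow_map_le _ hsj hS)).trans
    ((card_map_dvd _ _).trans (card_dvd_of_le (normalizer_le_normalizer_dSub S)))))

end CfsgLib.T3
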